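import Groth.Agent.GenusZeroLib.PSmooth
import Groth.Agent.GenusZeroLib.PSpace
import Groth.Agent.H0Lib.Group
import Groth.Agent.S11995
import Mathlib.AlgebraicGeometry.AffineSpace

/-!
# Morphisms from families of projective spaces to abelian schemes
-/

set_option autoImplicit false
set_option linter.style.haveILetI false

universe u

open CategoryTheory CategoryTheory.Limits AlgebraicGeometry MonoidalCategory CartesianMonoidalCategory
  TopologicalSpace

noncomputable section

namespace Groth.Agent.AbProj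

section Field

variable (K : Type u) [Field K] (n : ℕ)

set_option backward.isDefEq.respectTransparency false in
/-- An affine chart of projective space. -/
theorem exists_chart : ∃ j : 𝔸(ULift.{u} (Fin n); Spec (CommRingCat.of K)) ⟶ CohB1.ProjSpace n K,
    j ≫ CohB1.ProjSpace.toSpec n K = 𝔸(ULift.{u} (Fin n); Spec (CommRingCat.of K)) ↘ Spec (CommRingCat.of K) ∧
      DenseRange j := by
  let X₀ : MvPolynomial (Fin (n + 1)) K := MvPolynomial.X 0
  have hX : X₀ ∈ CohB1.polyGrading n K 1 := GradedCechLib.X_mem n K 0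
  let ψ : MvPolynomial (ULift.{u} (Fin n)) K →+* HomogeneousLocalization.Away (CohB1.polyGrading n K) X₀ :=
    (GenusZeroLib.chartPoly n K 0).comp (MvPolynomial.renameEquiv K Equiv.ulift).toRingEquiv.toRingHom
  have hψ : Function.Bijective ψ :=
    (GenusZeroLib.chartPoly_bijective n K 0).comp (MvPolynomial.renameEquiv K Equiv.ulift).bijective
  let e := (RingEquiv.ofBijective ψ hψ).toCommRingCatIso
  let c : Spec (CommRingCat.of (MvPolynomial (ULift.{u} (Fin n)) K)) ⟶ CohB1.ProjSpace n K :=
    Spec.map e.inv ≫ Proj.awayι (CohB1.polyGrading n K) X₀ hX one_pos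
  haveI : IsOpenImmersion (Proj.awayι (CohB1.polyGrading n K) X₀ hX one_pos) := IsOpenImmersion.comp _ _
  haveI : IsIso (Spec.map e.inv) := inferInstance
  haveI : IsOpenImmersion c := MorphismProperty.comp_mem @IsOpenImmersion _ _ inferInstance inferInstance
  let j := (AffineSpace.SpecIso (ULift.{u} (Fin n)) (CommRingCat.of K)).hom ≫ c
  refine ⟨j, ?_, ?_⟩
  · have h1 : c ≫ CohB1.ProjSpace.toSpec n K = Spec.map (CommRingCat.ofHom MvPolynomial.C) := by
      show (Spec.map e.inv ≫ Proj.awayι _ X₀ hX one_pos) ≫ Proj.toSpecZero _ ≫ _ = _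
      rw [Category.assoc, Proj.awayι_toSpecZero_assoc, ← Spec.map_comp, ← Spec.map_comp]
      refine congrArg Spec.map ?_
      rw [Iso.comp_inv_eq]
      refine CommRingCat.hom_ext (RingHom.ext fun r => ?_)
      show GradedCechLib.cst n K X₀ r = ψ (MvPolynomial.C r)
      simp [ψ, GenusZeroLib.chartPoly, X₀]
    rw [Category.assoc, h1, ← Iso.eq_inv_comp, AffineSpace.SpecIso_inv_over]
  · haveI : IrreducibleSpace ↥(CohB1.ProjSpace n K) := GenusZeroLib.irreducibleSpace_projSpace K n
    haveI : IsOpenImmersion j := inferInstanceAs (IsOpenImmersion (_ ≫ _))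
    exact j.isOpenEmbedding.isOpen_range.dense (Set.range_nonempty _)

/-- A morphism from projective space to an abelian variety has a point as image. -/
theorem range_subsingleton (A : Over (Spec (CommRingCat.of K))) [GrpObj A] [IsProper A.hom]
    [GeometricallyIntegral A.hom] (h : CohB1.ProjSpace n K ⟶ A.left)
    (hh : h ≫ A.hom = CohB1.ProjSpace.toSpec n K) : (Set.range h).Subsingleton := by
  obtain ⟨j, hj, hd⟩ := exists_chart K n
  let X : Over (Spec (CommRingCat.of K)) :=
    Over.mk (𝔸(ULift.{u} (Fin n); Spec (CommRingCat.of K)) ↘ Spec (CommRingCat.of K))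
  haveI : IsAffineHom X.hom :=
    inferInstanceAs (IsAffineHom (𝔸(ULift.{u} (Fin n); Spec (CommRingCat.of K)) ↘ Spec (CommRingCat.of K)))
  haveI : GeometricallyIntegral X.hom :=
    inferInstanceAs (GeometricallyIntegral (𝔸(ULift.{u} (Fin n); Spec (CommRingCat.of K)) ↘ Spec (CommRingCat.of K)))
  haveI : Smooth X.hom := by
    show Smooth (𝔸(ULift.{u} (Fin n); Spec (CommRingCat.of K)) ↘ Spec (CommRingCat.of K))
    rw [← MorphismProperty.cancel_left_of_respectsIso @Smooth
      (AffineSpace.SpecIso (ULift.{u} (Fin n)) (CommRingCat.of K)).inv, AffineSpace.SpecIso_inv_over,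
      HasRingHomProperty.Spec_iff (P := @Smooth)]
    exact RingHom.smooth_algebraMap.mpr ⟨inferInstance, inferInstance⟩
  let f : X ⟶ A := Over.homMk (j ≫ h) (by rw [Category.assoc, hh, hj]; rfl)
  obtain ⟨a, ha⟩ := Groth.Agent.S11995.result K X A (ULift.{u} (Fin n)) ⊤
    ⟨Classical.arbitrary _, trivial⟩ (⊤ : (𝔸(ULift.{u} (Fin n); Spec (CommRingCat.of K))).Opens).ι rfl
    (by
      rw [DenseRange, Scheme.Opens.range_ι]
      exact dense_univ) f
  let p : A.left := a.left.base (IsLocalRing.closedPoint K)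
  have hp : IsClosed ({p} : Set A.left) := by
    haveI : IsClosedImmersion a.left :=
      haveI : IsClosedImmersion (a.left ≫ A.hom) := by rw [Over.w a]; exact inferInstanceAs (IsClosedImmersion (𝟙 _))
      IsClosedImmersion.of_comp a.left A.hom
    have := a.left.isClosedEmbedding.isClosedMap _ (isClosed_univ)
    rwa [Set.image_univ, show Set.range a.left.base = {p} from ?_] at this
    ext q
    exact ⟨fun ⟨z, hz⟩ => hz.symm.trans (congrArg a.left.base (Subsingleton.elim (α := PrimeSpectrum K) z _)),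
      fun hq => ⟨_, hq.symm⟩⟩
  have hc : Set.range h ⊆ {p} := by
    refine (h.continuous.range_subset_closure_image_dense hd).trans ?_
    refine closure_minimal ?_ hp
    rintro _ ⟨_, ⟨x, rfl⟩, rfl⟩
    have e : (j ≫ h) x = a.left.base ((toUnit X).left.base x) :=
      congrArg (fun t : X ⟶ A => t.left.base x) ha
    rw [Scheme.Hom.comp_apply] at e
    exact e.trans (congrArg a.left.base (Subsingleton.elim (α := PrimeSpectrum K) _ _))
  exact Set.Subsingleton.anti Set.subsingleton_singleton hc

end Field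

variable {S : Scheme.{u}} (A P : Over S)

/-- Geometric fibres that are projective spaces give trivial functions. -/
theorem h0Fib [IsProper P.hom]
    (hP : ∀ (K : Type u) [Field K] [IsAlgClosed K] (s : Spec (CommRingCat.of K) ⟶ S),
      ∃ (n : ℕ) (e : pullback P.hom s ≅ CohB1.ProjSpace n K), e.hom ≫ CohB1.ProjSpace.toSpec n K = pullback.snd P.hom s) :
    H0Lib.H0Fib P.hom := fun K _ x => by
  let φ : CommRingCat.of K ⟶ CommRingCat.of (AlgebraicClosure K) :=
    CommRingCat.ofHom (algebraMap K (AlgebraicClosure K))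
  obtain ⟨n, e, he⟩ := hP (AlgebraicClosure K) (Spec.map φ ≫ x)
  let E := pullbackLeftPullbackSndIso P.hom x (Spec.map φ) ≪≫ e
  let f' := pullback.snd (pullback.snd P.hom x) (Spec.map φ)
  haveI : IsIntegral (CohB1.ProjSpace n (AlgebraicClosure K)) := GenusZeroLib.isIntegral_projSpace _ n
  haveI : IsIntegral (pullback (pullback.snd P.hom x) (Spec.map φ)) :=
    haveI : Nonempty ↥(pullback (pullback.snd P.hom x) (Spec.map φ)) := ⟨E.inv.base (genericPoint _)⟩
    isIntegral_of_isOpenImmersion E.hom
  haveI := H0Lib.isIso_appTop_of_isAlgClosed f'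
  refine H0Lib.isIso_appTop_descend (IsPullback.of_hasPullback (pullback.snd P.hom x) (Spec.map φ)) ?_
  exact RingHom.faithfullyFlat_algebraMap_iff.mpr inferInstance

/-- Morphisms from a family of projective spaces to an abelian scheme are constant on the fibres. -/
theorem main [IsLocallyNoetherian S] [GrpObj A] [IsProper A.hom] [GeometricallyIntegral A.hom]
    [IsProper P.hom] [Flat P.hom]
    (hP : ∀ (K : Type u) [Field K] [IsAlgClosed K] (s : Spec (CommRingCat.of K) ⟶ S),
      ∃ (n : ℕ) (e : pullback P.hom s ≅ CohB1.ProjSpace n K), e.hom ≫ CohB1.ProjSpace.toSpec n K = pullback.snd P.hom s)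
    (φ : P ⟶ A) : ∃ a : 𝟙_ (Over S) ⟶ A, φ = toUnit P ≫ a := by
  haveI : LocallyOfFinitePresentation P.hom := inferInstance
  have h0 := h0Fib P hP
  have hb := H0Lib.bijective_app P.hom h0
  haveI : Surjective P.hom := H0Lib.surjective_of_h0Fib P.hom h0
  have hcol : ∀ s : S, s ∈ H0Lib.collapse P.hom φ.left := fun s => by
    let Ω := AlgebraicClosure (S.residueField s)
    let t : Spec (CommRingCat.of Ω) ⟶ S :=
      Spec.map (CommRingCat.ofHom (algebraMap (S.residueField s) Ω)) ≫ S.fromSpecResidueField s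
    obtain ⟨n, e, he⟩ := hP Ω t
    let A' : Over (Spec (CommRingCat.of Ω)) := (Over.pullback t).obj A
    haveI : IsProper A'.hom := inferInstanceAs (IsProper (pullback.snd A.hom t))
    haveI : GeometricallyIntegral A'.hom := inferInstanceAs (GeometricallyIntegral (pullback.snd A.hom t))
    let φt : pullback P.hom t ⟶ A'.left :=
      pullback.lift (pullback.fst _ _ ≫ φ.left) (pullback.snd _ _)
        (by rw [Category.assoc, Over.w φ, pullback.condition])
    have hsub := range_subsingleton Ω n A' (e.inv ≫ φt) (by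
      rw [Category.assoc, Iso.inv_comp_eq, he]
      exact pullback.lift_snd _ _ _)
    obtain ⟨x₀, hx₀⟩ := P.hom.surjective s
    refine ⟨φ.left.base x₀, fun x hx => ?_⟩
    have lift : ∀ x : P.left, P.hom x = s → ∃ z : CohB1.ProjSpace n Ω,
        (pullback.fst A.hom t) ((e.inv ≫ φt) z) = φ.left x := fun x hx => by
      obtain ⟨w, hw, -⟩ := Scheme.Pullback.exists_preimage_pullback (f := P.hom) (g := t) x
        (IsLocalRing.closedPoint Ω) (by
          rw [hx]
          show s = S.fromSpecResidueField s ((Spec.map (CommRingCat.ofHom (algebraMap (S.residueField s) Ω))) _)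
          rw [Scheme.fromSpecResidueField_apply])
      refine ⟨e.hom w, ?_⟩
      rw [← Scheme.Hom.comp_apply, ← Scheme.Hom.comp_apply, Category.assoc, e.hom_inv_id_assoc,
        pullback.lift_fst, Scheme.Hom.comp_apply, hw]
    obtain ⟨z, hz⟩ := lift x hx
    obtain ⟨z₀, hz₀⟩ := lift x₀ hx₀
    show φ.left x = φ.left x₀
    rw [← hz, ← hz₀, hsub ⟨z, rfl⟩ ⟨z₀, rfl⟩]
  obtain ⟨k, hk⟩ := H0Lib.exists_factor_on P.hom φ.left hb ⊤ fun s _ => hcol s
  haveI : IsIso (P.hom ⁻¹ᵁ ⊤).ι := inferInstanceAs (IsIso (Scheme.topIso _).hom)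
  let a₀ : S ⟶ A.left := (Scheme.topIso S).inv ≫ k
  have e0 : (⊤ : S.Opens).ι ≫ (Scheme.topIso S).inv = 𝟙 _ := (Scheme.topIso S).hom_inv_id
  have hφ : φ.left = P.hom ≫ a₀ := by
    rw [← cancel_epi (P.hom ⁻¹ᵁ ⊤).ι, hk, ← morphismRestrict_ι_assoc, reassoc_of% e0]
  have ha : a₀ ≫ A.hom = 𝟙 S := by
    refine H0Lib.hom_ext_of_bijective P.hom hb _ _ ?_
    rw [← Category.assoc, ← hφ, Category.comp_id]
    exact Over.w φ
  exact ⟨Over.homMk a₀ ha, Over.OverMorphism.ext hφ⟩

end Groth.Agent.AbProj

end
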